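import Groth.Agent.An92.FrobCorr.ConstPull
import Groth.Agent.EtLim45.PullSys
import Groth.Agent.EtTor93.Hpull
import Groth.Agent.Unr55.Et.PullExact

/-!
Compatibility of the canonical maps `H^q(Y, f_* F) → H^q(X, F)` with base change.
-/

set_option autoImplicit false
set_option backward.isDefEq.respectTransparency.types false
universe u

open CategoryTheory CategoryTheory.Limits CategoryTheory.Abelian AlgebraicGeometry Opposite
open Groth.Agent.EtCore45.MV

namespace Groth.Agent.Unr55.BC0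

variable {X Y Z : Scheme.{u}}

theorem bc_hom_ext (f : X ⟶ Y) {U : Y.Etale} {W : X.Etale} (p q : W ⟶ (EtCoh.bc f).obj U)
    (h : p.left ≫ pullback.fst U.hom f = q.left ≫ pullback.fst U.hom f) : p = q :=
  MorphismProperty.Over.Hom.ext (pullback.hom_ext h ((Over.w p.hom).trans (Over.w q.hom).symm))

/-- The comparison of an iterated base change with the base change along the composite. -/
noncomputable def cmp (g : X ⟶ Y) (f : Y ⟶ Z) (U : Z.Etale) :
    (EtCoh.bc (g ≫ f)).obj U ⟶ (EtCoh.bc g).obj ((EtCoh.bc f).obj U) :=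
  (MorphismProperty.Over.pullbackComp (P := EtCoh.etaleMP) (Q := ⊤) g f).hom.app U

theorem cmp_fst (g : X ⟶ Y) (f : Y ⟶ Z) (U : Z.Etale) :
    ((cmp g f U).left ≫ pullback.fst _ g) ≫ pullback.fst U.hom f = pullback.fst U.hom (g ≫ f) := by
  simp [cmp, MorphismProperty.Over.pullbackComp, EtCoh.bc]
  exact (Category.id_comp _).trans (pullbackLeftPullbackSndIso_inv_fst _ _ _)

/-- The inverse of `cmp`. -/
noncomputable def cmpInv (g : X ⟶ Y) (f : Y ⟶ Z) (U : Z.Etale) :
    (EtCoh.bc g).obj ((EtCoh.bc f).obj U) ⟶ (EtCoh.bc (g ≫ f)).obj U :=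
  (MorphismProperty.Over.pullbackComp (P := EtCoh.etaleMP) (Q := ⊤) g f).inv.app U

theorem cmp_cmpInv (g : X ⟶ Y) (f : Y ⟶ Z) (U : Z.Etale) : cmp g f U ≫ cmpInv g f U = 𝟙 _ :=
  (MorphismProperty.Over.pullbackComp (P := EtCoh.etaleMP) (Q := ⊤) g f).hom_inv_id_app U

theorem cmpInv_cmp (g : X ⟶ Y) (f : Y ⟶ Z) (U : Z.Etale) : cmpInv g f U ≫ cmp g f U = 𝟙 _ :=
  (MorphismProperty.Over.pullbackComp (P := EtCoh.etaleMP) (Q := ⊤) g f).inv_hom_id_app U

theorem pullComp_unit (g : X ⟶ Y) (f : Y ⟶ Z) (A : EtCoh.Ab Z) (U : Z.Etale) (x : EtCoh.sect A U) :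
    ((EtCore.pullComp g f).hom.app A).hom.app (op ((EtCoh.bc (g ≫ f)).obj U)) (unitSect (g ≫ f) A U x) =
      ((EtCoh.pull g).obj ((EtCoh.pull f).obj A)).obj.map (cmp g f U).op
        (unitSect g _ _ (unitSect f A U x)) := by
  have h := Adjunction.unit_leftAdjointUniq_hom_app (EtCoh.pullPushAdj (g ≫ f))
    (((EtCoh.pullPushAdj f).comp (EtCoh.pullPushAdj g)).ofNatIsoRight (EtCoh.pushComp f g)) A
  have h' := congrArg (fun v : A ⟶ (EtCoh.push (g ≫ f)).obj ((EtCoh.pull g).obj ((EtCoh.pull f).obj A)) =>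
    v.hom.app (op U) x) h
  refine h'.trans ?_
  rfl

/-- Transport of base change along an equality. -/
noncomputable def congrMap {f f' : X ⟶ Y} (w : f = f') (U : Y.Etale) :
    (EtCoh.bc f).obj U ⟶ (EtCoh.bc f').obj U :=
  (MorphismProperty.Over.pullbackCongr (P := EtCoh.etaleMP) (Q := ⊤) w).hom.app U

theorem congrMap_self (f : X ⟶ Y) (U : Y.Etale) : congrMap (rfl : f = f) U = 𝟙 _ :=
  bc_hom_ext f _ _ (by simp [congrMap, MorphismProperty.Over.pullbackCongr, EtCoh.bc]; rfl)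

theorem congrMap_symm {a b : X ⟶ Y} (e : a = b) (U : Y.Etale) :
    congrMap e.symm U = (MorphismProperty.Over.pullbackCongr (P := EtCoh.etaleMP) (Q := ⊤) e).inv.app U := by
  subst e
  refine bc_hom_ext a _ _ ?_
  simp [congrMap, MorphismProperty.Over.pullbackCongr, EtCoh.bc]

theorem pullCongr_unit {f f' : X ⟶ Y} (w : f = f') (A : EtCoh.Ab Y) (U : Y.Etale) (x : EtCoh.sect A U) :
    ((EtCore.pullCongr w).hom.app A).hom.app (op ((EtCoh.bc f).obj U)) (unitSect f A U x) =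
      ((EtCoh.pull f').obj A).obj.map (congrMap w U).op (unitSect f' A U x) := by
  subst w
  rw [congrMap_self, op_id]
  exact (ConcreteCategory.congr_hom (((EtCoh.pull f).obj A).obj.map_id _) _).symm

theorem Hpull_Hpull (f : X ⟶ Y) (j : Y ⟶ Z) (h : X ⟶ Z) (w : f ≫ j = h)
    [PreservesFiniteLimits (EtCoh.pull f)] [PreservesFiniteLimits (EtCoh.pull j)]
    [PreservesFiniteLimits (EtCoh.pull h)] (F : EtCoh.Ab Z) (n : ℕ) (e : EtCoh.H Z F n) :
    EtCore.Hpull f ((EtCoh.pull j).obj F) n (EtCore.Hpull j F n e) =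
      (EtCore.Hpull h F n e).comp
        (Ext.mk₀ ((EtCore.pullCongr w.symm).hom.app F ≫ (EtCore.pullComp f j).hom.app F)) (add_zero n) := by
  have : Fact FinFr.PullExact.{u} := ⟨fun _ _ g => EtSh.preservesFiniteLimits_pull g⟩
  have h1 : (EtCore.Hpull f ((EtCoh.pull j).obj F) n (EtCore.Hpull j F n e)).comp
      (Ext.mk₀ (((EtCore.pullComp f j).symm ≪≫ EtCore.pullCongr w).app F).hom) (add_zero n) =
      EtCore.Hpull h F n e := An92.FrobCorr.hpull_comp f j h w F n e
  rw [← h1, Ext.comp_assoc_of_third_deg_zero, Ext.mk₀_comp_mk₀]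
  refine (Ext.comp_mk₀_id _).symm.trans (congrArg (fun v => Ext.comp _ (Ext.mk₀ v) (add_zero n)) ?_)
  subst w
  simp [EtCore.pullCongr]

theorem counit_unit (f : X ⟶ Y) (F : EtCoh.Ab X) (U : Y.Etale) (x : EtCoh.sect ((EtCoh.push f).obj F) U) :
    ((EtCoh.pullPushAdj f).counit.app F).hom.app (op ((EtCoh.bc f).obj U)) (unitSect f _ U x) = x :=
  ConcreteCategory.congr_hom (congrArg (fun k => k.hom.app (op U))
    ((EtCoh.pullPushAdj f).right_triangle_components F)) x

section Square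

variable {X' Y' : Scheme.{u}} (f : X ⟶ Y) (g : Y' ⟶ Y) (f' : X' ⟶ Y') (g' : X' ⟶ X) (w : g' ≫ f = f' ≫ g)

/-- The comparison of the two iterated base changes. -/
noncomputable def sq (U : Y.Etale) :
    (EtCoh.bc f').obj ((EtCoh.bc g).obj U) ⟶ (EtCoh.bc g').obj ((EtCoh.bc f).obj U) :=
  cmpInv f' g U ≫ congrMap w.symm U ≫ cmp g' f U

theorem congrMap_trans {a b : X ⟶ Y} (e : a = b) (U : Y.Etale) : congrMap e U ≫ congrMap e.symm U = 𝟙 _ := by
  subst e
  rw [congrMap_self, Category.id_comp]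

theorem baseChange0_unit (F : EtCoh.Ab X) (U : Y.Etale) (x : EtCoh.sect ((EtCoh.push f).obj F) U) :
    (EtCoh.baseChange0 f g f' g' w F).hom.app (op ((EtCoh.bc g).obj U)) (unitSect g _ U x) =
      ((EtCoh.pull g').obj F).obj.map (sq f g f' g' w U).op (unitSect g' F ((EtCoh.bc f).obj U) x) := by
  have hψ : (EtCoh.pullPushAdj g).unit.app _ ≫ (EtCoh.push g).map (EtCoh.baseChange0 f g f' g' w F) =
      (EtCoh.push f).map ((EtCoh.pullPushAdj g').unit.app F) ≫ (EtCoh.pushComp f g').hom.app _ ≫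
      (EtCoh.pushCongr w).hom.app _ ≫ (EtCoh.pushComp g f').inv.app _ :=
    ((EtCoh.pullPushAdj g).homEquiv_unit _ _ _).symm.trans (Equiv.apply_symm_apply _ _)
  refine (congrArg (fun v : (EtCoh.push f).obj F ⟶
    (EtCoh.push g).obj ((EtCoh.push f').obj ((EtCoh.pull g').obj F)) => v.hom.app (op U) x) hψ).trans ?_
  simp only [sq, congrMap_symm w, op_comp, Functor.map_comp]
  rfl

omit g f' w in
theorem lhs_unit (F : EtCoh.Ab X) (U : Y.Etale) (x : EtCoh.sect ((EtCoh.push f).obj F) U) :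
    ((EtCoh.pull g').map ((EtCoh.pullPushAdj f).counit.app F)).hom.app (op ((EtCoh.bc (g' ≫ f)).obj U))
        (((EtCore.pullComp g' f).hom.app ((EtCoh.push f).obj F)).hom.app (op ((EtCoh.bc (g' ≫ f)).obj U))
          (unitSect (g' ≫ f) _ U x)) =
      ((EtCoh.pull g').obj F).obj.map (cmp g' f U).op (unitSect g' F ((EtCoh.bc f).obj U) x) :=
  (congrArg (((EtCoh.pull g').map ((EtCoh.pullPushAdj f).counit.app F)).hom.app
      (op ((EtCoh.bc (g' ≫ f)).obj U))) (pullComp_unit g' f _ U x)).trans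
    ((app_map ((EtCoh.pull g').map ((EtCoh.pullPushAdj f).counit.app F)) (cmp g' f U) _).trans
      (congrArg (((EtCoh.pull g').obj F).obj.map (cmp g' f U).op)
        ((EtLim45.map_unitSect g' ((EtCoh.pullPushAdj f).counit.app F) _ _).trans
          (congrArg (unitSect g' F ((EtCoh.bc f).obj U)) (counit_unit f F U x)))))

theorem rhs_unit (F : EtCoh.Ab X) (U : Y.Etale) (x : EtCoh.sect ((EtCoh.push f).obj F) U) :
    ((EtCore.pullComp f' g).hom.app ((EtCoh.push f).obj F)).hom.app (op ((EtCoh.bc (g' ≫ f)).obj U))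
        (((EtCore.pullCongr w).hom.app ((EtCoh.push f).obj F)).hom.app (op ((EtCoh.bc (g' ≫ f)).obj U))
          (unitSect (g' ≫ f) _ U x)) =
      ((EtCoh.pull f').obj ((EtCoh.pull g).obj ((EtCoh.push f).obj F))).obj.map (congrMap w U ≫ cmp f' g U).op
        (unitSect f' _ _ (unitSect g _ U x)) :=
  (congrArg (((EtCore.pullComp f' g).hom.app ((EtCoh.push f).obj F)).hom.app
      (op ((EtCoh.bc (g' ≫ f)).obj U))) (pullCongr_unit w _ U x)).trans
    ((app_map ((EtCore.pullComp f' g).hom.app ((EtCoh.push f).obj F)) (congrMap w U) _).trans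
      ((congrArg (((EtCoh.pull f').obj ((EtCoh.pull g).obj ((EtCoh.push f).obj F))).obj.map (congrMap w U).op)
        (pullComp_unit f' g _ U x)).trans (map_map _ (cmp f' g U) (congrMap w U) _)))

theorem bc_unit (F : EtCoh.Ab X) (U : Y.Etale) (x : EtCoh.sect ((EtCoh.push f).obj F) U)
    {W : X'.Etale} (k : W ⟶ (EtCoh.bc f').obj ((EtCoh.bc g).obj U)) :
    ((EtCoh.pullPushAdj f').counit.app ((EtCoh.pull g').obj F)).hom.app (op W)
        (((EtCoh.pull f').map (EtCoh.baseChange0 f g f' g' w F)).hom.app (op W)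
          (((EtCoh.pull f').obj ((EtCoh.pull g).obj ((EtCoh.push f).obj F))).obj.map k.op
            (unitSect f' _ _ (unitSect g _ U x)))) =
      ((EtCoh.pull g').obj F).obj.map (k ≫ sq f g f' g' w U).op (unitSect g' F ((EtCoh.bc f).obj U) x) :=
  (congrArg (((EtCoh.pullPushAdj f').counit.app ((EtCoh.pull g').obj F)).hom.app (op W))
      ((app_map ((EtCoh.pull f').map (EtCoh.baseChange0 f g f' g' w F)) k _).trans
        (congrArg (((EtCoh.pull f').obj ((EtCoh.push f').obj ((EtCoh.pull g').obj F))).obj.map k.op)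
          (EtLim45.map_unitSect f' (EtCoh.baseChange0 f g f' g' w F) _ _)))).trans
    ((app_map ((EtCoh.pullPushAdj f').counit.app ((EtCoh.pull g').obj F)) k _).trans
      ((congrArg (((EtCoh.pull g').obj F).obj.map k.op)
        ((counit_unit f' ((EtCoh.pull g').obj F) _ _).trans (baseChange0_unit f g f' g' w F U x))).trans
        (map_map ((EtCoh.pull g').obj F) (sq f g f' g' w U) k _)))

omit f g f' g' w in
theorem comp_app {S : Scheme.{u}} {A B C : EtCoh.Ab S} (a : A ⟶ B) (b : B ⟶ C) (O : S.Etale)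
    (x : EtCoh.sect A O) : (a ≫ b).hom.app (op O) x = b.hom.app (op O) (a.hom.app (op O) x) := rfl

theorem sq_eq (U : Y.Etale) : (congrMap w U ≫ cmp f' g U) ≫ sq f g f' g' w U = cmp g' f U := by
  simp only [sq, Category.assoc]
  rw [← Category.assoc (cmp f' g U), cmp_cmpInv, Category.id_comp, ← Category.assoc (congrMap w U),
    congrMap_trans, Category.id_comp]

theorem counit_comp (F : EtCoh.Ab X) :
    (EtCore.pullComp g' f).hom.app ((EtCoh.push f).obj F) ≫
        (EtCoh.pull g').map ((EtCoh.pullPushAdj f).counit.app F) =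
      (EtCore.pullCongr w).hom.app ((EtCoh.push f).obj F) ≫ (EtCore.pullComp f' g).hom.app ((EtCoh.push f).obj F) ≫
        (EtCoh.pull f').map (EtCoh.baseChange0 f g f' g' w F) ≫
          (EtCoh.pullPushAdj f').counit.app ((EtCoh.pull g').obj F) := by
  refine EtLim45.hom_ext_unit (g' ≫ f) fun U x => ?_
  rw [comp_app, comp_app, comp_app, comp_app]
  refine (lhs_unit f g' F U x).trans (Eq.trans ?_ (congrArg (fun z =>
    ((EtCoh.pullPushAdj f').counit.app ((EtCoh.pull g').obj F)).hom.app (op ((EtCoh.bc (g' ≫ f)).obj U))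
      (((EtCoh.pull f').map (EtCoh.baseChange0 f g f' g' w F)).hom.app (op ((EtCoh.bc (g' ≫ f)).obj U)) z))
    (rhs_unit f g f' g' w F U x)).symm)
  refine Eq.trans ?_ (bc_unit f g f' g' w F U x (congrMap w U ≫ cmp f' g U)).symm
  rw [sq_eq]

omit f g f' g' w in
theorem HofPush_apply {S T : Scheme.{u}} (a : S ⟶ T) [PreservesFiniteLimits (EtCoh.pull a)] (F : EtCoh.Ab S) (q : ℕ)
    (ζ : EtCoh.H T ((EtCoh.push a).obj F) q) : EtLim.HofPush a F q ζ =
      (EtCore.Hpull a _ q ζ).comp (Ext.mk₀ ((EtCoh.pullPushAdj a).counit.app F)) (add_zero q) := rfl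

omit f g f' g' w in
theorem HF_map {S : Scheme.{u}} {A B : EtCoh.Ab S} (φ : A ⟶ B) (q : ℕ) (e : EtCoh.H S A q) :
    ((EtCoh.HF S q).map φ).hom e = e.comp (Ext.mk₀ φ) (add_zero q) := rfl

omit f g f' g' w in
theorem comp_mk₃ {S : Scheme.{u}} {A B C D E : EtCoh.Ab S} {q : ℕ} (e : EtCoh.H S A q) (a : A ⟶ B) (b : B ⟶ C)
    (c : C ⟶ D) (d : D ⟶ E) :
    ((e.comp (Ext.mk₀ (a ≫ b)) (add_zero q)).comp (Ext.mk₀ c) (add_zero q)).comp (Ext.mk₀ d) (add_zero q) =
      e.comp (Ext.mk₀ (a ≫ b ≫ c ≫ d)) (add_zero q) := by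
  simp only [Ext.comp_assoc_of_third_deg_zero, Ext.mk₀_comp_mk₀, Category.assoc]

theorem Hpull_HofPush_left (F : EtCoh.Ab X) (q : ℕ)
    [PreservesFiniteLimits (EtCoh.pull f)] [PreservesFiniteLimits (EtCoh.pull g')]
    [PreservesFiniteLimits (EtCoh.pull (g' ≫ f))]
    (ζ : EtCoh.H Y ((EtCoh.push f).obj F) q) :
    EtCore.Hpull g' F q (EtLim.HofPush f F q ζ) =
      (EtCore.Hpull (g' ≫ f) ((EtCoh.push f).obj F) q ζ).comp
        (Ext.mk₀ ((EtCore.pullComp g' f).hom.app ((EtCoh.push f).obj F) ≫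
          (EtCoh.pull g').map ((EtCoh.pullPushAdj f).counit.app F))) (add_zero q) := by
  rw [HofPush_apply, EtTor93.Hpull_comp_mk₀, Hpull_Hpull g' f (g' ≫ f) rfl, Ext.comp_assoc_of_third_deg_zero,
    Ext.mk₀_comp_mk₀]
  exact congrArg (fun v => Ext.comp _ (Ext.mk₀ v) (add_zero q))
    ((Category.assoc _ _ _).trans (Category.id_comp _))

omit f g' w in
theorem Hpull_HofPush_right {h : X' ⟶ Y} (wh : h = f' ≫ g) (A : EtCoh.Ab Y) {M : EtCoh.Ab X'}
    (β : (EtCoh.pull g).obj A ⟶ (EtCoh.push f').obj M) (q : ℕ)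
    [PreservesFiniteLimits (EtCoh.pull g)] [PreservesFiniteLimits (EtCoh.pull f')]
    [PreservesFiniteLimits (EtCoh.pull h)]
    (ζ : EtCoh.H Y A q) :
    EtLim.HofPush f' M q ((EtCore.Hpull g A q ζ).comp (Ext.mk₀ β) (add_zero q)) =
      (EtCore.Hpull h A q ζ).comp
        (Ext.mk₀ ((EtCore.pullCongr wh).hom.app A ≫ (EtCore.pullComp f' g).hom.app A ≫
          (EtCoh.pull f').map β ≫ (EtCoh.pullPushAdj f').counit.app M)) (add_zero q) := by
  subst wh
  rw [HofPush_apply, EtTor93.Hpull_comp_mk₀, Hpull_Hpull f' g (f' ≫ g) rfl]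
  exact comp_mk₃ _ _ _ _ _

theorem Hpull_HofPush (F : EtCoh.Ab X) (q : ℕ)
    [PreservesFiniteLimits (EtCoh.pull f)] [PreservesFiniteLimits (EtCoh.pull g)]
    [PreservesFiniteLimits (EtCoh.pull f')] [PreservesFiniteLimits (EtCoh.pull g')]
    (ζ : EtCoh.H Y ((EtCoh.push f).obj F) q) :
    EtCore.Hpull g' F q (EtLim.HofPush f F q ζ) =
      EtLim.HofPush f' ((EtCoh.pull g').obj F) q
        ((EtCore.Hpull g ((EtCoh.push f).obj F) q ζ).comp (Ext.mk₀ (EtCoh.baseChange0 f g f' g' w F)) (add_zero q)) :=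
  have := EtSh.preservesFiniteLimits_pull (g' ≫ f)
  (Hpull_HofPush_left f g' F q ζ).trans
    ((congrArg (fun v => (EtCore.Hpull (g' ≫ f) ((EtCoh.push f).obj F) q ζ).comp (Ext.mk₀ v) (add_zero q))
      (counit_comp f g f' g' w F)).trans (Hpull_HofPush_right g f' w ((EtCoh.push f).obj F) (EtCoh.baseChange0 f g f' g' w F) q ζ).symm)

end Square

end Groth.Agent.Unr55.BC0
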